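import Cfsg.Agent.H193.RB.Gal
import Cfsg.Agent.H653.Sieve.Prime

/-!
# The column of a prime dividing `|G|` exactly once and the Galois twists (helper193)

* `galcol` : `IsCol Q e W`, `|Q| = r`, `r ∥ |G|`: every `χ` has a finite set `S ∋ χ` of twists agreeing with `χ` at the
  `r`-regular elements, with `r - 1 ∣ |S| * (e * W χ)`;
* `two_prime` : no element of order divisible by `r s`, `ψ = χ` off the `r`-singular elements, `θ = χ` off the `s`-singular
  elements: `ψ = χ` or `θ = χ`.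
-/

set_option autoImplicit false

namespace Cfsg.Agent.H193.RB

open Cfsg Cfsg.Agent.Characters Cfsg.Agent.H653.Sieve Subgroup
open scoped ComplexConjugate

universe u

variable {G : Type u} [Group G] [Finite G]

/-- the exponent with residues `u` modulo `r` and `1` modulo `m` -/
noncomputable def kk {r m : ℕ} (h : r.Coprime m) (u : (ZMod r)ˣ) : ℕ :=
  (Nat.chineseRemainder h (u : ZMod r).val 1 : ℕ)

theorem kk_r {r m : ℕ} (h : r.Coprime m) (u : (ZMod r)ˣ) : kk h u ≡ (u : ZMod r).val [MOD r] :=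
  (Nat.chineseRemainder h (u : ZMod r).val 1).2.1

theorem kk_m {r m : ℕ} (h : r.Coprime m) (u : (ZMod r)ˣ) : kk h u ≡ 1 [MOD m] :=
  (Nat.chineseRemainder h (u : ZMod r).val 1).2.2

theorem kk_cop {r m : ℕ} (h : r.Coprime m) (u : (ZMod r)ˣ) : (kk h u).Coprime (r * m) := by
  refine Nat.Coprime.mul_right ?_ ?_
  · rw [Nat.Coprime, (kk_r h u).gcd_eq]
    exact ZMod.val_coe_unit_coprime u
  · rw [Nat.Coprime, (kk_m h u).gcd_eq]
    exact Nat.gcd_one_left m

theorem kk_mul {r m : ℕ} (h : r.Coprime m) (u v : (ZMod r)ˣ) : kk h (u * v) ≡ kk h u * kk h v [MOD r * m] := by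
  rw [← Nat.modEq_and_modEq_iff_modEq_mul h]
  constructor
  · refine (kk_r h _).trans ?_
    rw [Units.val_mul, ZMod.val_mul]
    exact (Nat.mod_modEq _ _).trans ((kk_r h u).mul (kk_r h v)).symm
  · exact (kk_m h _).trans ((kk_m h u).mul (kk_m h v)).symm

theorem kk_one {r m : ℕ} (h : r.Coprime m) : kk h 1 ≡ 1 [MOD r * m] := by
  rw [← Nat.modEq_and_modEq_iff_modEq_mul h]
  refine ⟨(kk_r h 1).trans ?_, kk_m h 1⟩
  rw [Units.val_one, ZMod.val_one_eq_one_mod]
  exact Nat.mod_modEq _ _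

section

variable {r m : ℕ} (h : r.Coprime m) (hN : Nat.card G = r * m)

/-- the twist of `χ` -/
noncomputable def tw (u : (ZMod r)ˣ) (χ : IrrCharacter G) : IrrCharacter G :=
  powIrr (k := kk h u) (by rw [hN]; exact kk_cop h u) χ

theorem tw_apply (u : (ZMod r)ˣ) (χ : IrrCharacter G) (g : G) :
    (tw h hN u χ : G → ℂ) g = (χ : G → ℂ) (g ^ kk h u) := rfl

include hN in
theorem pow_congr {a b : ℕ} (hab : a ≡ b [MOD r * m]) (g : G) : g ^ a = g ^ b :=
  pow_eq_pow_iff_modEq.2 (hab.of_dvd (by rw [← hN]; exact orderOf_dvd_natCard g))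

theorem tw_mul (u v : (ZMod r)ˣ) (χ : IrrCharacter G) : tw h hN (u * v) χ = tw h hN u (tw h hN v χ) := by
  apply Subtype.ext
  funext g
  show (tw h hN (u * v) χ : G → ℂ) g = (tw h hN u (tw h hN v χ) : G → ℂ) g
  rw [tw_apply, tw_apply, tw_apply, ← pow_mul, pow_congr hN (kk_mul h u v)]

theorem tw_one (χ : IrrCharacter G) : tw h hN 1 χ = χ := by
  apply Subtype.ext
  funext g
  show (tw h hN 1 χ : G → ℂ) g = (χ : G → ℂ) g
  rw [tw_apply, pow_congr hN (kk_one h), pow_one]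

theorem tw_reg (hr : r.Prime) (u : (ZMod r)ˣ) (χ : IrrCharacter G) {g : G} (hg : ¬ r ∣ orderOf g) :
    (tw h hN u χ : G → ℂ) g = (χ : G → ℂ) g := by
  have hd : orderOf g ∣ m := by
    have h1 : orderOf g ∣ r * m := by rw [← hN]; exact orderOf_dvd_natCard g
    exact Nat.Coprime.dvd_of_dvd_mul_left ((hr.coprime_iff_not_dvd).2 hg).symm h1
  rw [tw_apply, pow_eq_pow_iff_modEq.2 ((kk_m h u).of_dvd hd), pow_one]

end

/-- the sum over the nontrivial elements of a subgroup of prime order -/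
theorem csum_eq_units {r : ℕ} (hr : r.Prime) {Q : Subgroup G} {z : G} (hz : orderOf z = r) (hQ : Q = zpowers z)
    [Fintype (ZMod r)ˣ] (f : G → ℂ) : csum Q f = ∑ u : (ZMod r)ˣ, f (z ^ (u : ZMod r).val) := by
  classical
  have := Fact.mk hr
  have := Fintype.ofFinite Q
  rw [csum_eq_erase]
  symm
  have hmem : ∀ u : (ZMod r)ˣ, z ^ (u : ZMod r).val ∈ Q := fun u => by
    rw [hQ]
    exact npow_mem_zpowers z _
  refine Finset.sum_bij (fun u _ => (⟨z ^ (u : ZMod r).val, hmem u⟩ : Q)) ?_ ?_ ?_ ?_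
  · intro u _
    rw [Finset.mem_erase]
    refine ⟨fun h => ?_, Finset.mem_univ _⟩
    have h1 : z ^ (u : ZMod r).val = 1 := congrArg Subtype.val h
    rw [← orderOf_dvd_iff_pow_eq_one, hz] at h1
    have h2 := ZMod.val_coe_unit_coprime u
    exact (hr.coprime_iff_not_dvd.1 h2.symm) h1
  · intro u _ v _ h
    have h1 : z ^ (u : ZMod r).val = z ^ (v : ZMod r).val := congrArg Subtype.val h
    rw [pow_eq_pow_iff_modEq, hz] at h1
    apply Units.ext
    apply ZMod.val_injective r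
    have h2 := ZMod.val_lt (u : ZMod r)
    have h3 := ZMod.val_lt (v : ZMod r)
    have h4 : (u : ZMod r).val % r = (v : ZMod r).val % r := h1
    rwa [Nat.mod_eq_of_lt h2, Nat.mod_eq_of_lt h3] at h4
  · rintro ⟨y, hy⟩ hy1
    rw [Finset.mem_erase] at hy1
    have hy' := hy
    rw [hQ, ← mem_powers_iff_mem_zpowers] at hy'
    obtain ⟨a, ha⟩ := hy'
    simp only at ha
    have hcop : a.Coprime r := by
      rw [Nat.coprime_comm, hr.coprime_iff_not_dvd]
      intro hd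
      apply hy1.1
      apply Subtype.ext
      show y = 1
      rw [← ha, ← orderOf_dvd_iff_pow_eq_one, hz]
      exact hd
    refine ⟨ZMod.unitOfCoprime a hcop, Finset.mem_univ _, Subtype.ext ?_⟩
    show z ^ (((ZMod.unitOfCoprime a hcop : (ZMod r)ˣ) : ZMod r)).val = y
    rw [← ha, pow_eq_pow_iff_modEq, hz, ZMod.coe_unitOfCoprime, ZMod.val_natCast]
    exact Nat.mod_modEq _ _
  · intro u _
    rfl

/-- **GALCOL.** -/
theorem galcol {r : ℕ} (hr : r.Prime) (hd : r ∣ Nat.card G) (hd2 : ¬ r ^ 2 ∣ Nat.card G) {Q : Subgroup G}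
    (hQ : Nat.card Q = r) {e : ℕ} {W : IrrCharacter G → ℤ} (hW : IsCol Q e W) (χ : IrrCharacter G) :
    ∃ S : Finset (IrrCharacter G), χ ∈ S ∧ ((r - 1 : ℕ) : ℤ) ∣ S.card * (e * W χ) ∧
      ∀ ψ ∈ S, ∀ g : G, ¬ r ∣ orderOf g → (ψ : G → ℂ) g = (χ : G → ℂ) g := by
  classical
  have := Fact.mk hr
  obtain ⟨m, hN⟩ := hd
  have hcop : r.Coprime m := by
    rw [hr.coprime_iff_not_dvd]
    rintro ⟨t, rfl⟩
    exact hd2 ⟨t, by rw [hN]; ring⟩
  -- a generator
  have hcyc : IsCyclic Q := isCyclic_of_prime_card hQ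
  obtain ⟨z', hz'⟩ := hcyc.exists_generator
  obtain ⟨z, hz⟩ : ∃ z : G, z = (z' : G) := ⟨_, rfl⟩
  have hQz : Q = zpowers z := by
    apply le_antisymm
    · intro y hy
      obtain ⟨i, hi⟩ := mem_zpowers_iff.1 (hz' ⟨y, hy⟩)
      rw [mem_zpowers_iff]
      refine ⟨i, ?_⟩
      rw [hz]
      exact congrArg Subtype.val hi
    · rw [zpowers_le, hz]
      exact z'.2
  have hzo : orderOf z = r := by
    rw [← Nat.card_zpowers, ← hQz, hQ]
  set T := tw (G := G) hcop hN with hT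
  obtain ⟨s, hs⟩ : ∃ s : ℕ, s = (Finset.univ.filter fun u : (ZMod r)ˣ => T u χ = χ).card := ⟨_, rfl⟩
  obtain ⟨S, hS⟩ : ∃ S : Finset (IrrCharacter G), S = Finset.univ.image fun u : (ZMod r)ˣ => T u χ := ⟨_, rfl⟩
  have hχS : χ ∈ S := by
    rw [hS, Finset.mem_image]
    exact ⟨1, Finset.mem_univ _, tw_one hcop hN χ⟩
  have hfib : ∀ ψ ∈ S, (Finset.univ.filter fun u : (ZMod r)ˣ => T u χ = ψ).card = s := by
    intro ψ hψ
    rw [hS, Finset.mem_image] at hψ
    obtain ⟨v, -, rfl⟩ := hψ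
    rw [hs]
    refine Finset.card_bij (fun u _ => v⁻¹ * u) ?_ ?_ ?_
    · intro u hu
      rw [Finset.mem_filter] at hu ⊢
      refine ⟨Finset.mem_univ _, ?_⟩
      rw [hT, tw_mul, ← hT, hu.2, hT, ← tw_mul, inv_mul_cancel, tw_one]
    · intro u _ w _ huw
      exact mul_left_cancel huw
    · intro w hw
      rw [Finset.mem_filter] at hw
      refine ⟨v * w, ?_, by rw [inv_mul_cancel_left]⟩
      rw [Finset.mem_filter]
      refine ⟨Finset.mem_univ _, ?_⟩
      rw [hT, tw_mul, ← hT, hw.2]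
  have hspos : 0 < s := by
    rw [hs, Finset.card_pos]
    exact ⟨1, Finset.mem_filter.2 ⟨Finset.mem_univ _, tw_one hcop hN χ⟩⟩
  have hmaps : ∀ u ∈ (Finset.univ : Finset (ZMod r)ˣ), T u χ ∈ S := fun u _ => by
    rw [hS]
    exact Finset.mem_image_of_mem _ (Finset.mem_univ u)
  have hcard : r - 1 = S.card * s := by
    have h1 := Finset.card_eq_sum_card_fiberwise hmaps
    rw [Finset.sum_congr rfl hfib, Finset.sum_const, smul_eq_mul, Finset.card_univ, ZMod.card_units_eq_totient,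
      Nat.totient_prime hr] at h1
    exact h1
  have hsum : csum Q (χ : G → ℂ) = (s : ℂ) * ∑ ψ ∈ S, (ψ : G → ℂ) z := by
    rw [csum_eq_units hr hzo hQz]
    have h1 : ∀ u : (ZMod r)ˣ, (χ : G → ℂ) (z ^ (u : ZMod r).val) = (T u χ : G → ℂ) z := by
      intro u
      have h0 : z ^ (u : ZMod r).val = z ^ kk hcop u := by
        rw [pow_eq_pow_iff_modEq, hzo]
        exact (kk_r hcop u).symm
      rw [hT, tw_apply, h0]
    rw [Finset.sum_congr rfl fun u _ => h1 u, ← Finset.sum_fiberwise_of_maps_to hmaps, Finset.mul_sum]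
    refine Finset.sum_congr rfl fun ψ hψ => ?_
    have h2 : ∀ u ∈ Finset.univ.filter (fun u : (ZMod r)ˣ => T u χ = ψ), (T u χ : G → ℂ) z = (ψ : G → ℂ) z := by
      intro u hu
      rw [(Finset.mem_filter.1 hu).2]
    rw [Finset.sum_congr rfl h2, Finset.sum_const, nsmul_eq_mul, hfib ψ hψ]
  have hint : IsIntegral ℤ (∑ ψ ∈ S, (ψ : G → ℂ) z) := by
    refine IsIntegral.sum _ fun ψ _ => ?_
    exact GaloisBasic.isIntegral_apply (Core.isIrr_isCharacter ψ.2) z
  have hs0 : (s : ℂ) ≠ 0 := by exact_mod_cast hspos.ne'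
  obtain ⟨a, ha⟩ := GaloisBasic.exists_int_of_isIntegral hint ⟨((e : ℚ) * W χ) / s, by
    have h1 := hW χ
    rw [hsum] at h1
    push_cast
    rw [h1]
    field_simp⟩
  refine ⟨S, hχS, ⟨a, ?_⟩, ?_⟩
  · have h1 := hW χ
    rw [hsum, ha] at h1
    have h2 : (e : ℤ) * W χ = s * a := by exact_mod_cast h1
    rw [h2, hcard]
    push_cast
    ring
  · intro ψ hψ g hg
    rw [hS, Finset.mem_image] at hψ
    obtain ⟨v, -, rfl⟩ := hψ
    exact tw_reg hcop hN hr v χ hg

/-- **Two primes.** -/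
theorem two_prime {r s : ℕ} (hno : ∀ g : G, r ∣ orderOf g → s ∣ orderOf g → False) {χ ψ θ : IrrCharacter G}
    (hψ : ∀ g : G, ¬ r ∣ orderOf g → (ψ : G → ℂ) g = (χ : G → ℂ) g)
    (hθ : ∀ g : G, ¬ s ∣ orderOf g → (θ : G → ℂ) g = (χ : G → ℂ) g) : ψ = χ ∨ θ = χ := by
  classical
  by_contra hcon
  push Not at hcon
  have := Fintype.ofFinite G
  have hz : classInner ((χ : G → ℂ) - (ψ : G → ℂ)) ((χ : G → ℂ) - (θ : G → ℂ)) = 0 := by
    show (Nat.card G : ℂ)⁻¹ * ∑ g : G, ((χ : G → ℂ) - (ψ : G → ℂ)) g * conj (((χ : G → ℂ) - (θ : G → ℂ)) g) = 0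
    rw [Finset.sum_eq_zero, mul_zero]
    intro g _
    by_cases h1 : r ∣ orderOf g
    · have h2 : ¬ s ∣ orderOf g := fun h => hno g h1 h
      rw [Pi.sub_apply, Pi.sub_apply, hθ g h2, sub_self, map_zero, mul_zero]
    · rw [Pi.sub_apply, hψ g h1, sub_self, zero_mul]
  have h1 : ((χ : G → ℂ)) ≠ (ψ : G → ℂ) := fun h => hcon.1 (Subtype.ext h.symm)
  have h2 : ((χ : G → ℂ)) ≠ (θ : G → ℂ) := fun h => hcon.2 (Subtype.ext h.symm)
  rw [Core.classInner_sub_left, Core.classInner_sub_right, Core.classInner_sub_right,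
    Core.classInner_irr_self χ.2, Core.classInner_irr_ne χ.2 θ.2 h2, Core.classInner_irr_ne ψ.2 χ.2 h1.symm] at hz
  by_cases h3 : (ψ : G → ℂ) = (θ : G → ℂ)
  · rw [h3, Core.classInner_irr_self θ.2] at hz
    norm_num at hz
  · rw [Core.classInner_irr_ne ψ.2 θ.2 h3] at hz
    norm_num at hz

end Cfsg.Agent.H193.RB
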