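import Cfsg.Agent.H65.Ore.Prd
import Cfsg.Agent.Characters.GaloisIrr

/-!
# Galois conjugation of structure constants (helper193)

* `prd_pow` : `Prd x y g → Prd (x ^ k) (y ^ k) (g ^ k)` for `k` prime to the group order;
* `exists_exp` : simultaneous exponents;
* `prd_of_pow` : `orderOf x`, `orderOf y`, `orderOf g` pairwise coprime: `Prd (x ^ i) (y ^ j) g → Prd x y g`;
* `exists_isConj_pow` : elements of prime order `r` if `r² ∤ |G|`;
* `prd_of_exists` : `g = x' y'` for some elements of orders `r ≠ s` gives `Prd x y g` for every pair of these orders.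
-/

set_option autoImplicit false

namespace Cfsg.Agent.H193.RB

open Cfsg Cfsg.Agent.Characters Cfsg.Agent.H65.Ore
open scoped ComplexConjugate

universe u

variable {G : Type u} [Group G] [Finite G]

/-- the power map on irreducible characters -/
noncomputable def powIrr {k : ℕ} (hk : k.Coprime (Nat.card G)) (χ : IrrCharacter G) : IrrCharacter G :=
  ⟨fun g => (χ : G → ℂ) (g ^ k), GaloisIrr.isIrr_pow hk χ.2⟩

theorem powIrr_apply {k : ℕ} (hk : k.Coprime (Nat.card G)) (χ : IrrCharacter G) (g : G) :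
    (powIrr hk χ : G → ℂ) g = (χ : G → ℂ) (g ^ k) := rfl

theorem powIrr_injective {k : ℕ} (hk : k.Coprime (Nat.card G)) : Function.Injective (powIrr (G := G) hk) := by
  intro χ ψ h
  apply Subtype.ext
  funext g
  obtain ⟨a, rfl⟩ := (powCoprime hk.symm).surjective g
  have h1 := congrArg (fun c : IrrCharacter G => (c : G → ℂ) a) h
  simpa [powIrr_apply] using h1

/-- the structure constants of `x ^ k, y ^ k, g ^ k` are the ones of `x, y, g` -/
theorem sum_pow [Fintype (IrrCharacter G)] {k : ℕ} (hk : k.Coprime (Nat.card G)) (x y g : G) :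
    ∑ χ : IrrCharacter G, (χ : G → ℂ) (x ^ k) * (χ : G → ℂ) (y ^ k) * conj ((χ : G → ℂ) (g ^ k)) / (χ : G → ℂ) 1 =
      ∑ χ : IrrCharacter G, (χ : G → ℂ) x * (χ : G → ℂ) y * conj ((χ : G → ℂ) g) / (χ : G → ℂ) 1 := by
  have hb : Function.Bijective (powIrr (G := G) hk) :=
    (Fintype.bijective_iff_injective_and_card _).2 ⟨powIrr_injective hk, rfl⟩
  rw [← hb.sum_comp (fun χ : IrrCharacter G =>
    (χ : G → ℂ) x * (χ : G → ℂ) y * conj ((χ : G → ℂ) g) / (χ : G → ℂ) 1)]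
  refine Finset.sum_congr rfl fun χ _ => ?_
  simp only [powIrr_apply, one_pow]

theorem card_pow {k : ℕ} (hk : k.Coprime (Nat.card G)) (x y g : G) :
    Nat.card {p : G × G // p.1 * x ^ k * p.1⁻¹ * (p.2 * y ^ k * p.2⁻¹) = g ^ k} =
      Nat.card {p : G × G // p.1 * x * p.1⁻¹ * (p.2 * y * p.2⁻¹) = g} := by
  have := Core.finite_irr (G := G)
  have := Fintype.ofFinite (IrrCharacter G)
  have h1 := ClassMul.card_conj_mul_conj (x ^ k) (y ^ k) (g ^ k)
  have h2 := ClassMul.card_conj_mul_conj x y g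
  rw [sum_pow hk, ← h2] at h1
  exact_mod_cast h1

theorem prd_iff_card {x y g : G} :
    Prd x y g ↔ Nat.card {p : G × G // p.1 * x * p.1⁻¹ * (p.2 * y * p.2⁻¹) = g} ≠ 0 := by
  constructor
  · rintro ⟨a, b, h⟩
    have : Nonempty {p : G × G // p.1 * x * p.1⁻¹ * (p.2 * y * p.2⁻¹) = g} := ⟨⟨(a, b), h.symm⟩⟩
    exact Nat.card_pos.ne'
  · intro h
    have : Nonempty {p : G × G // p.1 * x * p.1⁻¹ * (p.2 * y * p.2⁻¹) = g} := (Nat.card_ne_zero.1 h).1
    obtain ⟨⟨a, b⟩, h1⟩ := this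
    exact ⟨a, b, h1.symm⟩

/-- **Galois conjugation of products of classes.** -/
theorem prd_pow_iff {k : ℕ} (hk : k.Coprime (Nat.card G)) {x y g : G} :
    Prd (x ^ k) (y ^ k) (g ^ k) ↔ Prd x y g := by
  rw [prd_iff_card, prd_iff_card, card_pow hk]

theorem prd_pow {k : ℕ} (hk : k.Coprime (Nat.card G)) {x y g : G} (h : Prd x y g) :
    Prd (x ^ k) (y ^ k) (g ^ k) := (prd_pow_iff hk).2 h

/-- lift of a residue prime to `m` to a number prime to `n`, `m ∣ n` -/
theorem exists_lift {m n a : ℕ} (hn : n ≠ 0) (hmn : m ∣ n) (ha : a.Coprime m) :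
    ∃ k : ℕ, k.Coprime n ∧ k ≡ a [MOD m] := by
  have : NeZero n := ⟨hn⟩
  have hm0 : m ≠ 0 := fun h => hn (by rw [h] at hmn; exact Nat.eq_zero_of_zero_dvd hmn)
  have : NeZero m := ⟨hm0⟩
  obtain ⟨v, hv⟩ := ZMod.unitsMap_surjective hmn (ZMod.unitOfCoprime a ha)
  refine ⟨(v : ZMod n).val, ZMod.val_coe_unit_coprime v, ?_⟩
  rw [← ZMod.natCast_eq_natCast_iff]
  have h1 := congrArg (fun w : (ZMod m)ˣ => (w : ZMod m)) hv
  simp only [ZMod.unitsMap_def, Units.coe_map, MonoidHom.coe_coe, ZMod.coe_unitOfCoprime] at h1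
  rw [← h1, ZMod.castHom_apply, ZMod.natCast_val]

/-- simultaneous exponents -/
theorem exists_exp {n l m c i j : ℕ} (hn : n ≠ 0) (hl : l ∣ n) (hm : m ∣ n) (hc : c ∣ n) (hlm : l.Coprime m)
    (hcl : c.Coprime l) (hcm : c.Coprime m) (hi : i.Coprime l) (hj : j.Coprime m) :
    ∃ k : ℕ, k.Coprime n ∧ k ≡ i [MOD l] ∧ k ≡ j [MOD m] ∧ k ≡ 1 [MOD c] := by
  obtain ⟨a, ha1, ha2⟩ := Nat.chineseRemainder hlm i j
  have hclm : (l * m).Coprime c := (Nat.Coprime.mul_left hcl.symm hcm.symm)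
  obtain ⟨b, hb1, hb2⟩ := Nat.chineseRemainder hclm a 1
  have hbl : b ≡ i [MOD l] := (hb1.of_dvd (Dvd.intro m rfl)).trans ha1
  have hbm : b ≡ j [MOD m] := (hb1.of_dvd (Dvd.intro_left l rfl)).trans ha2
  have hcop : b.Coprime (l * m * c) := by
    refine Nat.Coprime.mul_right (Nat.Coprime.mul_right ?_ ?_) ?_
    · rw [Nat.Coprime, hbl.gcd_eq]
      exact hi
    · rw [Nat.Coprime, hbm.gcd_eq]
      exact hj
    · rw [Nat.Coprime, hb2.gcd_eq]
      exact Nat.gcd_one_left c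
  obtain ⟨k, hk1, hk2⟩ := exists_lift hn
    (hclm.mul_dvd_of_dvd_of_dvd (hlm.mul_dvd_of_dvd_of_dvd hl hm) hc) hcop
  exact ⟨k, hk1, (hk2.of_dvd (Dvd.intro_left (m * c) (by ring))).trans hbl,
    (hk2.of_dvd (Dvd.intro_left (l * c) (by ring))).trans hbm,
    (hk2.of_dvd (Dvd.intro_left (l * m) rfl)).trans hb2⟩

theorem pow_eq_of_modEq {x : G} {a b : ℕ} (h : a ≡ b [MOD orderOf x]) : x ^ a = x ^ b :=
  pow_eq_pow_iff_modEq.2 h

/-- `x`, `y`, `g` of pairwise coprime orders -/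
theorem prd_pow_pow {x y g : G} (hxy : (orderOf x).Coprime (orderOf y)) (hgx : (orderOf g).Coprime (orderOf x))
    (hgy : (orderOf g).Coprime (orderOf y)) {i j : ℕ} (hi : i.Coprime (orderOf x)) (hj : j.Coprime (orderOf y))
    (h : Prd x y g) : Prd (x ^ i) (y ^ j) g := by
  obtain ⟨k, hk, h1, h2, h3⟩ := exists_exp (Nat.card_pos (α := G)).ne' (orderOf_dvd_natCard x) (orderOf_dvd_natCard y)
    (orderOf_dvd_natCard g) hxy hgx hgy hi hj
  have h4 := prd_pow hk h
  rwa [pow_eq_of_modEq h1, pow_eq_of_modEq h2, pow_eq_of_modEq h3, pow_one] at h4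

/-- `x`, `y`, `g` of pairwise coprime orders -/
theorem prd_of_pow {x y g : G} (hxy : (orderOf x).Coprime (orderOf y)) (hgx : (orderOf g).Coprime (orderOf x))
    (hgy : (orderOf g).Coprime (orderOf y)) {i j : ℕ} (hi : i.Coprime (orderOf x)) (hj : j.Coprime (orderOf y))
    (h : Prd (x ^ i) (y ^ j) g) : Prd x y g := by
  obtain ⟨k, hk, h1, h2, h3⟩ := exists_exp (Nat.card_pos (α := G)).ne' (orderOf_dvd_natCard x) (orderOf_dvd_natCard y)
    (orderOf_dvd_natCard g) hxy hgx hgy hi hj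
  rw [← pow_eq_of_modEq h1, ← pow_eq_of_modEq h2] at h
  have h5 : g = g ^ k := by rw [pow_eq_of_modEq h3, pow_one]
  rw [h5] at h
  exact (prd_pow_iff hk).1 h

/-- the same for `x` and `g` only: `y` a power-closed class is not needed if `y = x` -/
theorem prd_of_pow_same {x g : G} (hgx : (orderOf g).Coprime (orderOf x)) {i j : ℕ} (hi : i.Coprime (orderOf x))
    (h : Prd (x ^ i) (x ^ (i * j)) g) : Prd x (x ^ j) g := by
  obtain ⟨k, hk, h1, -, h3⟩ := exists_exp (m := 1) (j := 1) (Nat.card_pos (α := G)).ne' (orderOf_dvd_natCard x)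
    (one_dvd _) (orderOf_dvd_natCard g) (Nat.coprime_one_right _) hgx (Nat.coprime_one_right _) hi
    (Nat.coprime_one_right _)
  have h5 : g = g ^ k := by rw [pow_eq_of_modEq h3, pow_one]
  rw [pow_mul, ← pow_eq_of_modEq h1, ← pow_mul, mul_comm k j, pow_mul, h5] at h
  exact (prd_pow_iff hk).1 h

/-- two elements of prime order `r`, `r² ∤ |G|` -/
theorem exists_isConj_pow {r : ℕ} (hr : r.Prime) (h2 : ¬ r ^ 2 ∣ Nat.card G) {x x' : G} (hx : orderOf x = r)
    (hx' : orderOf x' = r) : ∃ i : ℕ, i.Coprime r ∧ IsConj x' (x ^ i) := by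
  have := Fact.mk hr
  have key : ∀ z : G, orderOf z = r → ∃ P : Sylow r G, (P : Subgroup G) = Subgroup.zpowers z := by
    intro z hz
    have hp : IsPGroup r (Subgroup.zpowers z) := by
      apply IsPGroup.of_card (n := 1)
      rw [Nat.card_zpowers, hz, pow_one]
    obtain ⟨P, hP⟩ := hp.exists_le_sylow
    refine ⟨P, (Subgroup.eq_of_le_of_card_ge hP ?_).symm⟩
    rw [Nat.card_zpowers, hz]
    obtain ⟨n, hn⟩ := IsPGroup.iff_card.1 P.isPGroup'
    rw [hn]
    by_contra hlt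
    push Not at hlt
    have h3 : 2 ≤ n := by
      by_contra h4
      have h5 : r ^ n ≤ r ^ 1 := Nat.pow_le_pow_right hr.pos (by omega)
      rw [pow_one] at h5
      omega
    apply h2
    calc r ^ 2 ∣ r ^ n := pow_dvd_pow r h3
      _ = Nat.card (P : Subgroup G) := hn.symm
      _ ∣ Nat.card G := Subgroup.card_subgroup_dvd_card _
  obtain ⟨P, hP⟩ := key x hx
  obtain ⟨P', hP'⟩ := key x' hx'
  obtain ⟨g, hg⟩ := MulAction.exists_smul_eq G P' P
  have h3 : g * x' * g⁻¹ ∈ Subgroup.zpowers x := by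
    rw [← hP, ← hg]
    rw [Sylow.coe_subgroup_smul, Subgroup.mem_pointwise_smul_iff_inv_smul_mem, hP']
    have : (MulAut.conj g)⁻¹ • (g * x' * g⁻¹) = x' := by
      rw [← map_inv, MulAut.smul_def, MulAut.conj_apply]
      group
    rw [this]
    exact Subgroup.mem_zpowers x'
  rw [← mem_powers_iff_mem_zpowers] at h3
  obtain ⟨i, hi⟩ := h3
  simp only at hi
  refine ⟨i, ?_, isConj_iff.2 ⟨g, hi.symm⟩⟩
  have h4 : orderOf (x ^ i) = r := by
    rw [hi, ← hx']
    have := (MulAut.conj g).orderOf_eq x'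
    rwa [MulAut.conj_apply] at this
  rw [Nat.coprime_comm, hr.coprime_iff_not_dvd]
  intro hd
  have h5 : x ^ i = 1 := by
    rw [← orderOf_dvd_iff_pow_eq_one, hx]
    exact hd
  rw [h5, orderOf_one] at h4
  exact hr.one_lt.ne h4

/-- **A fixed pair**: some elements of orders `r ≠ s` with product `g` (`r, s ∤ |g|`, `r², s² ∤ |G|`) give every pair. -/
theorem prd_of_exists {r s : ℕ} (hr : r.Prime) (hs : s.Prime) (hrs : r ≠ s) (hr2 : ¬ r ^ 2 ∣ Nat.card G)
    (hs2 : ¬ s ^ 2 ∣ Nat.card G) {x y g : G} (hx : orderOf x = r) (hy : orderOf y = s) (hgr : ¬ r ∣ orderOf g)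
    (hgs : ¬ s ∣ orderOf g) (h : ∃ x' y' : G, orderOf x' = r ∧ orderOf y' = s ∧ Prd x' y' g) : Prd x y g := by
  obtain ⟨x', y', hx', hy', h1⟩ := h
  obtain ⟨i, hi, hci⟩ := exists_isConj_pow hr hr2 hx hx'
  obtain ⟨j, hj, hcj⟩ := exists_isConj_pow hs hs2 hy hy'
  refine prd_of_pow (i := i) (j := j) ?_ ?_ ?_ ?_ ?_ ((h1.congr_left hci).congr_right hcj)
  · rw [hx, hy]
    exact (Nat.coprime_primes hr hs).2 hrs
  · rw [hx]
    exact ((hr.coprime_iff_not_dvd).2 hgr).symm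
  · rw [hy]
    exact ((hs.coprime_iff_not_dvd).2 hgs).symm
  · rw [hx]; exact hi
  · rw [hy]; exact hj

/-- the form with `g = x' * y'` -/
theorem prd_of_exists_mul {r s : ℕ} (hr : r.Prime) (hs : s.Prime) (hrs : r ≠ s) (hr2 : ¬ r ^ 2 ∣ Nat.card G)
    (hs2 : ¬ s ^ 2 ∣ Nat.card G) {x y g : G} (hx : orderOf x = r) (hy : orderOf y = s) (hgr : ¬ r ∣ orderOf g)
    (hgs : ¬ s ∣ orderOf g) (h : ∃ x' y' : G, orderOf x' = r ∧ orderOf y' = s ∧ g = x' * y') : Prd x y g := by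
  obtain ⟨x', y', hx', hy', h1⟩ := h
  exact prd_of_exists hr hs hrs hr2 hs2 hx hy hgr hgs ⟨x', y', hx', hy', 1, 1, by simpa using h1⟩

end Cfsg.Agent.H193.RB
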